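import Cfsg.Agent.H569.OC.RankOne
import Cfsg.Agent.H623.OC.OddTool
import Cfsg.Agent.H684.SzRee

/-!
# S4891, defining characteristic: the Ree groups (helper569)
-/

set_option autoImplicit false

open Cfsg

namespace Cfsg.Agent.H569.OC

open Cfsg.Agent.H684.RankOne Cfsg.Agent.H684.SzRee Cfsg.Agent.Characters Cfsg.Agent.OddOrderCharacters.Clifford Cfsg.Agent.H53.HC
open Cfsg.Agent.LieRecognition.ReeAbs Cfsg.Agent.LieRecognition.ReeSylowThree
open Cfsg.Agent.H993.OC Cfsg.Agent.H145.BR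
open scoped ComplexConjugate

universe u

section

variable {K : Type} [Field K] {m : ℕ} {G : Type} [Group G] {U : K → K → K → G} {h : Kˣ → G} {n : G}

/-- the torus component -/
theorem exists_pr (D : Data m U h n) (b : bSub D) : ∃ a : Kˣ, ∃ u ∈ uSub D, (b : G) = u * h a := by
  obtain ⟨u, hu, a, he⟩ := b.2
  exact ⟨a, u, hu, he⟩

theorem pr_unique (D : Data m U h n) {u u' : G} (hu : u ∈ uSub D) (hu' : u' ∈ uSub D) {a a' : Kˣ}
    (he : u * h a = u' * h a') : a = a' := by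
  obtain ⟨x, y, z, rfl⟩ := hu
  obtain ⟨x', y', z', rfl⟩ := hu'
  exact (D.inj₁ _ _ _ _ _ _ _ _ he).2.2.2

/-- the torus component -/
noncomputable def prf (D : Data m U h n) (b : bSub D) : Kˣ := (exists_pr D b).choose

theorem prf_spec (D : Data m U h n) (b : bSub D) : ∃ u ∈ uSub D, (b : G) = u * h (prf D b) :=
  (exists_pr D b).choose_spec

/-- the projection of the Borel subgroup onto the torus -/
noncomputable def pr (D : Data m U h n) : bSub D →* Kˣ where
  toFun := prf D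
  map_one' := by
    obtain ⟨u, hu, he⟩ := prf_spec D 1
    refine pr_unique D hu (one_mem _) (a' := 1) ?_
    rw [← he, D.h_one, one_mul, Subgroup.coe_one]
  map_mul' a b := by
    obtain ⟨u, hu, he⟩ := prf_spec D (a * b)
    obtain ⟨v, hv, he'⟩ := prf_spec D a
    obtain ⟨w, hw, he''⟩ := prf_spec D b
    refine pr_unique D hu (mul_mem hv (h_conj_mem D (prf D a) hw)) ?_
    rw [← he, Subgroup.coe_mul, D.h_mul, he', he'']
    group

theorem pr_eq (D : Data m U h n) {u : G} (hu : u ∈ uSub D) (a : Kˣ) (hb : u * h a ∈ bSub D) : pr D ⟨u * h a, hb⟩ = a := by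
  obtain ⟨v, hv, he⟩ := prf_spec D ⟨u * h a, hb⟩
  exact (pr_unique D hu hv he).symm

theorem pr_U (D : Data m U h n) {u : G} (hu : u ∈ uSub D) : pr D ⟨u, uSub_le D hu⟩ = 1 := by
  have h1 : u = u * h 1 := by rw [D.h_one, mul_one]
  have h2 := pr_eq D hu 1 (h1 ▸ uSub_le D hu)
  rw [← h2]
  congr 1
  exact Subtype.ext h1

theorem pr_h (D : Data m U h n) (a : Kˣ) : pr D ⟨h a, h_mem_bSub D a⟩ = a := by
  have h2 := pr_eq D (one_mem (uSub D)) a (by rw [one_mul]; exact h_mem_bSub D a)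
  exact (congrArg (pr D) (Subtype.ext (one_mul (h a)).symm)).trans h2

/-- a linear character of the Borel subgroup trivial on `U` is determined by its values on the torus -/
theorem eq_of_torus (D : Data m U h n) {f g : bSub D →* ℂˣ} (hf : ∀ (u : G) (hu : u ∈ uSub D), f ⟨u, uSub_le D hu⟩ = 1)
    (hg : ∀ (u : G) (hu : u ∈ uSub D), g ⟨u, uSub_le D hu⟩ = 1)
    (hT : ∀ a, f ⟨h a, h_mem_bSub D a⟩ = g ⟨h a, h_mem_bSub D a⟩) : f = g := by
  refine MonoidHom.ext fun b => ?_
  obtain ⟨b, hb⟩ := b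
  obtain ⟨u, hu, a, rfl⟩ := id hb
  have e : (⟨u * h a, hb⟩ : bSub D) = ⟨u, uSub_le D hu⟩ * ⟨h a, h_mem_bSub D a⟩ := rfl
  rw [e, map_mul, map_mul, hf u hu, hg u hu, hT]

variable [Fintype K]

/-- the quadratic character -/
noncomputable def quad : Kˣ →* ℂˣ :=
  letI := Classical.decEq K
  (Units.map (Int.castRingHom ℂ : ℤ →* ℂ)).comp (quadraticChar K).toUnitHom

theorem quad_sq (a : Kˣ) : (quad a : ℂˣ) ^ 2 = 1 := by
  unfold quad
  rw [MonoidHom.comp_apply, ← map_pow, Int.units_sq, map_one]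

theorem quad_ne_one (hc : ringChar K ≠ 2) : (quad : Kˣ →* ℂˣ) ≠ 1 := by
  classical
  obtain ⟨a, ha⟩ := FiniteField.exists_nonsquare hc
  have ha0 : a ≠ 0 := by
    rintro rfl
    exact ha ⟨0, by simp⟩
  intro h1
  have h2 := DFunLike.congr_fun h1 (Units.mk0 a ha0)
  rw [MonoidHom.one_apply] at h2
  have h3 := congrArg (Units.val) h2
  have h4 : ((quadraticChar K a : ℤ) : ℂ) = 1 := by
    have h6 : ((quad (Units.mk0 a ha0) : ℂˣ) : ℂ) = ((quadraticChar K a : ℤ) : ℂ) := by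
      unfold quad
      rw [MonoidHom.comp_apply, Units.coe_map, MonoidHom.coe_coe, MulChar.coe_toUnitHom, Units.val_mk0]
      congr!
    rw [← h6, h3, Units.val_one]
  have h5 : quadraticChar K a = 1 := by exact_mod_cast h4
  rw [quadraticChar_one_iff_isSquare ha0] at h5
  exact ha h5

/-- uniqueness of the character of order 2 of the torus -/
theorem quad_unique {f g : Kˣ →* ℂˣ} (hf : ∀ a, f a ^ 2 = 1) (hg : ∀ a, g a ^ 2 = 1) (hf1 : f ≠ 1) (hg1 : g ≠ 1) :
    f = g := by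
  obtain ⟨x, hx⟩ := IsCyclic.exists_generator (α := Kˣ)
  have key : ∀ k : Kˣ →* ℂˣ, (∀ a, k a ^ 2 = 1) → k ≠ 1 → k x = -1 := by
    intro k hk hk1
    have h1 : ((k x : ℂˣ) : ℂ) * ((k x : ℂˣ) : ℂ) = 1 := by
      rw [← Units.val_mul, ← pow_two, hk, Units.val_one]
    rcases mul_self_eq_one_iff.1 h1 with h2 | h2
    · exfalso
      apply hk1
      refine MonoidHom.ext fun a => ?_
      obtain ⟨j, rfl⟩ := hx a
      have h3 : k x = 1 := Units.ext h2
      change k (x ^ j) = 1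
      rw [map_zpow, h3, one_zpow]
    · exact Units.ext (by rw [h2, Units.val_neg, Units.val_one])
  refine MonoidHom.ext fun a => ?_
  obtain ⟨j, rfl⟩ := hx a
  change f (x ^ j) = g (x ^ j)
  rw [map_zpow, map_zpow, key f hf hf1, key g hg hg1]

/-- the character of order 2 of the Borel subgroup -/
noncomputable def eta (D : Data m U h n) : bSub D →* ℂˣ := quad.comp (pr D)

theorem eta_sq (D : Data m U h n) (b : bSub D) : eta D b ^ 2 = 1 := quad_sq _

theorem eta_U (D : Data m U h n) (u : G) (hu : u ∈ uSub D) : eta D ⟨u, uSub_le D hu⟩ = 1 := by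
  change quad (pr D _) = 1
  rw [pr_U D hu, map_one]

theorem eta_h (D : Data m U h n) (a : Kˣ) : eta D ⟨h a, h_mem_bSub D a⟩ = quad a := by
  change quad (pr D _) = _
  rw [pr_h]

theorem eta_ne_one (D : Data m U h n) (hc : ringChar K ≠ 2) : eta D ≠ 1 := by
  intro h1
  apply quad_ne_one hc
  refine MonoidHom.ext fun a => ?_
  rw [← eta_h D a, h1]
  rfl

/-- uniqueness of `η` -/
theorem eta_unique (D : Data m U h n) (hc : ringChar K ≠ 2) {f : bSub D →* ℂˣ} (h2 : ∀ b, f b ^ 2 = 1)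
    (hf : ∀ (u : G) (hu : u ∈ uSub D), f ⟨u, uSub_le D hu⟩ = 1) (h1 : f ≠ 1) : f = eta D := by
  let hh : Kˣ →* bSub D :=
    { toFun := fun a => ⟨h a, h_mem_bSub D a⟩
      map_one' := Subtype.ext D.h_one
      map_mul' := fun a b => Subtype.ext (D.h_mul a b) }
  have h3 : f.comp hh = quad := by
    refine quad_unique (fun a => h2 _) quad_sq (fun h4 => h1 ?_) (quad_ne_one hc)
    exact eq_of_torus D hf (fun _ _ => rfl) fun a => DFunLike.congr_fun h4 a
  refine eq_of_torus D hf (eta_U D) fun a => ?_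
  rw [eta_h]
  exact DFunLike.congr_fun h3 a

theorem not_dvd_index [Finite G] (hK : Fintype.card K = 3 ^ (2 * m + 1)) (D : Data m U h n) : ¬ 3 ∣ (uSub D).index := by
  have hfact : Fact (Nat.Prime 3) := ⟨Nat.prime_three⟩
  have H := ro_ree hK D
  have h1 : (uSub D).relIndex (bSub D) = Nat.card K - 1 :=
    relIndex_eq H.le (by rw [card_bSub, card_uSub, Nat.card_eq_fintype_card])
  refine H.not_dvd_index ?_
  rw [h1, Nat.card_eq_fintype_card, hK, pow_succ]
  have : 0 < 3 ^ (2 * m) := by positivity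
  omega

/-- the elements of the Borel subgroup in the opposite Borel subgroup -/
theorem mem_torus (hK : Fintype.card K = 3 ^ (2 * m + 1)) (D : Data m U h n) {t : G} (ht : t ∈ bSub D)
    (htn : n⁻¹ * t * n ∈ bSub D) : ∃ a, t = h a := by
  have H := ro_ree hK D
  obtain ⟨u, hu, a, rfl⟩ := ht
  refine ⟨a, ?_⟩
  have h1 : n⁻¹ * (u * h a) * n = n⁻¹ * u * n * h a⁻¹ := by
    rw [mul_assoc n⁻¹, mul_assoc u, D.n_h' a]
    group
  rw [h1] at htn
  have h2 : n⁻¹ * u * n ∈ bSub D := by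
    have := mul_mem htn (inv_mem (h_mem_bSub D a⁻¹))
    rwa [mul_inv_cancel_right] at this
  rw [H.inter u hu h2, one_mul]

theorem conj_torus (D : Data m U h n) (a : Kˣ) : n⁻¹ * h a * n = h a⁻¹ := by
  rw [mul_assoc, D.n_h' a, inv_mul_cancel_left]

theorem eta_w (hK : Fintype.card K = 3 ^ (2 * m + 1)) (D : Data m U h n) (t : bSub D) (ht : n⁻¹ * (t : G) * n ∈ bSub D) :
    eta D ⟨_, ht⟩ = eta D t := by
  obtain ⟨a, ha⟩ := mem_torus hK D t.2 ht
  have h1 : (⟨n⁻¹ * (t : G) * n, ht⟩ : bSub D) = ⟨h a⁻¹, h_mem_bSub D _⟩ := Subtype.ext (by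
    change n⁻¹ * (t : G) * n = h a⁻¹
    rw [ha, conj_torus D])
  have h2 : t = ⟨h a, h_mem_bSub D _⟩ := Subtype.ext ha
  rw [h1, eta_h, h2, eta_h, map_inv]
  have h3 := quad_sq a
  rw [pow_two] at h3
  exact inv_eq_of_mul_eq_one_left h3

theorem card_torus (hK : Fintype.card K = 3 ^ (2 * m + 1)) (D : Data m U h n) :
    Nat.card (uSub D) * Nat.card {t : bSub D // n⁻¹ * (t : G) * n ∈ bSub D} = Nat.card (bSub D) := by
  have h1 : Nat.card {t : bSub D // n⁻¹ * (t : G) * n ∈ bSub D} = Nat.card Kˣ := by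
    refine (Nat.card_congr (Equiv.ofBijective (fun a : Kˣ => (⟨⟨h a, h_mem_bSub D a⟩, by
      change n⁻¹ * h a * n ∈ bSub D
      rw [conj_torus D]
      exact h_mem_bSub D _⟩ : {t : bSub D // n⁻¹ * (t : G) * n ∈ bSub D})) ⟨?_, ?_⟩)).symm
    · intro a b hab
      have h2 : h a = h b := congrArg (fun x : {t : bSub D // n⁻¹ * (t : G) * n ∈ bSub D} => ((x.1 : bSub D) : G)) hab
      exact pr_unique D (one_mem _) (one_mem _) (by rw [one_mul, one_mul, h2])
    · rintro ⟨t, ht⟩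
      obtain ⟨a, ha⟩ := mem_torus hK D t.2 ht
      exact ⟨a, Subtype.ext (Subtype.ext ha.symm)⟩
  rw [h1, card_uSub, card_bSub, Nat.card_units, Nat.card_eq_fintype_card]

/-! ### the linear character of `U` -/

theorem exists_pu (D : Data m U h n) (b : uSub D) : ∃ t : K, ∃ u v, (b : G) = U t u v := b.2

/-- the first coordinate -/
noncomputable def puf (D : Data m U h n) (b : uSub D) : K := (exists_pu D b).choose

theorem puf_spec (D : Data m U h n) (b : uSub D) : ∃ u v, (b : G) = U (puf D b) u v := (exists_pu D b).choose_spec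

theorem puf_eq (D : Data m U h n) (b : uSub D) {t u v : K} (hb : (b : G) = U t u v) : puf D b = t := by
  obtain ⟨u', v', h1⟩ := puf_spec D b
  exact (U_injective D (h1.symm.trans hb)).1

/-- the linear character of `U` -/
noncomputable def lam (D : Data m U h n) (ψ : AddChar K ℂ) : uSub D →* ℂˣ :=
  (ψ.toMonoidHom.toHomUnits).comp
    { toFun := fun b => Multiplicative.ofAdd (puf D b)
      map_one' := by
        rw [puf_eq D 1 (t := 0) (u := 0) (v := 0) (by rw [D.U_zero]; rfl)]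
        rfl
      map_mul' := fun a b => by
        obtain ⟨u, v, ha⟩ := puf_spec D a
        obtain ⟨u', v', hb⟩ := puf_spec D b
        rw [puf_eq D (a * b) (by rw [Subgroup.coe_mul, ha, hb, D.U_mul])]
        rfl }

theorem lam_apply (D : Data m U h n) (ψ : AddChar K ℂ) (b : uSub D) : ((lam D ψ b : ℂˣ) : ℂ) = ψ (puf D b) := rfl

theorem odd_pow (k : ℕ) : (-1 : K) ^ (3 ^ k) = -1 := Odd.neg_one_pow (Odd.pow (by decide))

/-- **R13** : the Ree groups. -/
theorem ocRow_of_data [Finite G] (hK : Fintype.card K = 3 ^ (2 * m + 1)) (D : Data m U h n) : OCRow 3 G := by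
  classical
  have hfact : Fact (Nat.Prime 3) := ⟨Nat.prime_three⟩
  let _ : Fintype G := Fintype.ofFinite G
  have hc := ringChar_ne_two hK
  have hch := charP_three hK
  have H := ro_ree hK D
  have hUi := not_dvd_index hK D
  -- the linear character of `U`
  obtain ⟨ψ, hψ⟩ : ∃ ψ : AddChar K ℂ, ψ ≠ 1 := by
    obtain ⟨ψ, hψ⟩ := AddChar.exists_apply_ne_zero.2 (one_ne_zero (α := K))
    exact ⟨ψ, fun h' => hψ (by rw [h']; rfl)⟩
  have hlam1 : lam D ψ ≠ 1 := by
    intro h1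
    apply hψ
    ext t
    have h2 := DFunLike.congr_fun h1 ⟨U t 0 0, t, 0, 0, rfl⟩
    have h3 := congrArg Units.val h2
    rw [lam_apply, puf_eq D _ rfl] at h3
    exact h3
  have hlam3 : ∀ u, lam D ψ u ^ 3 = 1 := by
    intro u
    apply Units.ext
    rw [Units.val_pow_eq_pow_val, lam_apply, ← AddChar.map_nsmul_eq_pow, nsmul_eq_mul, CharP.cast_eq_zero, zero_mul,
      AddChar.map_zero_eq_one, Units.val_one]
  have hi : ∀ u, u ∈ uSub D ↔ (h (-1))⁻¹ * u * h (-1) ∈ uSub D := by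
    intro u
    have h1 := H.norm (h_mem_bSub D (-1))
    rw [Subgroup.mem_normalizer_iff''] at h1
    exact h1 u
  have hinv : ∀ (u : G) (hu : u ∈ uSub D) (hu' : (h (-1))⁻¹ * u * h (-1) ∈ uSub D),
      lam D ψ ⟨_, hu'⟩ = (lam D ψ ⟨u, hu⟩)⁻¹ := by
    intro x hx hx'
    obtain ⟨t, u, v, rfl⟩ := id hx
    have h0 : (h (-1))⁻¹ = h (-1) := by
      rw [← D.h_inv, inv_neg, inv_one]
    have h1 : (h (-1))⁻¹ * U t u v * h (-1) = U (-t) (((-1 : Kˣ) : K) ^ (3 ^ (m + 1) + 3) * u)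
        (((-1 : Kˣ) : K) ^ (2 * 3 ^ (m + 1) + 3) * v) := by
      rw [h0, D.h_U, mul_assoc, ← D.h_mul]
      have h2 : (-1 : Kˣ) * -1 = 1 := by simp
      rw [h2, D.h_one, mul_one]
      congr 1
      rw [Units.val_neg, Units.val_one, odd_pow, neg_one_mul]
    rw [eq_inv_iff_mul_eq_one]
    apply Units.ext
    rw [Units.val_mul, lam_apply, lam_apply, puf_eq D ⟨_, hx'⟩ h1, puf_eq D ⟨U t u v, hx⟩ rfl, ← AddChar.map_add_eq_mul,
      neg_add_cancel, AddChar.map_zero_eq_one, Units.val_one]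
  intro A hA
  refine H623.OddTool.odd_tool hA
    (CharactersDeep.IndFun.isCharacter_indFun (bSub D) (Linear.isCharacter_hom (eta D)))
    (inner_self H (eta_sq D) (eta_w hK D) (card_torus hK D)) (inner_one (eta_ne_one D hc)) (ind_one H (eta D)) ?_
    (pRat_of_int (ind_int H (eta_sq D)))
    (fun a _ x => ind_inv H hUi (fun f h2 hf h1 => eta_unique D hc h2 hf h1) (eta_sq D) (eta_U D) (eta_ne_one D hc) a x)
    (CharactersDeep.IndFun.isCharacter_indFun (uSub D) (Linear.isCharacter_hom (lam D ψ)))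
    (pRat_of_rat (lam_rat hlam3 hi hinv)) (inner_lam H (eta_sq D) (eta_U D) hlam1)
  rw [card_uSub, hK, ← pow_mul]
  have h1 : 3 ∣ 3 ^ ((2 * m + 1) * 3) := dvd_pow_self 3 (by omega)
  omega

end

/-- **R13** : the Ree groups. -/
theorem ocRow_ree {K : Type} [Field K] [Fintype K] {m : ℕ} (hK : Fintype.card K = 3 ^ (2 * m + 1)) :
    OCRow 3 ↥(Cfsg.Lie.twistedG2 K (3 ^ m)) := by
  obtain ⟨U, h, n, D⟩ := Cfsg.Agent.ChevalleyStructure.Ree.Data.exists_data hK
  have : Finite ↥(Cfsg.Lie.twistedG2 K (3 ^ m)) := Cfsg.Agent.LieRecognition.ReeSylowThree.finite D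
  exact ocRow_of_data hK D

end Cfsg.Agent.H569.OC
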